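import Mathlib
import Cfsg.Agent.H395.Jordan
import Cfsg.Agent.Blocks.CentralSylow
set_option linter.all false

/-!
# Class sizes: basic lemmas (helper558, for S4284)
-/

set_option autoImplicit false

namespace Cfsg.Agent.H558.Cs

open Subgroup

variable {G : Type*} [Group G]

/-- `p`-element. -/
def PEl (p : ℕ) (g : G) : Prop := ∃ k : ℕ, g ^ p ^ k = 1

theorem PEl.conj {p : ℕ} {g : G} (h : PEl p g) (x : G) : PEl p (x * g * x⁻¹) := by
  obtain ⟨k, hk⟩ := h
  exact ⟨k, by rw [conj_pow, hk]; group⟩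

theorem PEl.pow {p : ℕ} {g : G} (h : PEl p g) (n : ℕ) : PEl p (g ^ n) := by
  obtain ⟨k, hk⟩ := h
  exact ⟨k, by rw [← pow_mul, mul_comm, pow_mul, hk, one_pow]⟩

theorem PEl.inv {p : ℕ} {g : G} (h : PEl p g) : PEl p g⁻¹ := by
  obtain ⟨k, hk⟩ := h
  exact ⟨k, by rw [inv_pow, hk, inv_one]⟩

theorem PEl.mul {p : ℕ} {g h : G} (hg : PEl p g) (hh : PEl p h) (hc : g * h = h * g) :
    PEl p (g * h) := by
  obtain ⟨k, hk⟩ := hg
  obtain ⟨l, hl⟩ := hh
  refine ⟨k + l, ?_⟩
  rw [Commute.mul_pow hc, pow_add, pow_mul g, hk, one_pow, mul_comm (p ^ k), pow_mul h, hl,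
    one_pow, one_mul]

theorem PEl.one (p : ℕ) : PEl p (1 : G) := ⟨0, one_pow _⟩

theorem PEl.orderOf_dvd {p : ℕ} {g : G} (h : PEl p g) : ∃ k, orderOf g ∣ p ^ k := by
  obtain ⟨k, hk⟩ := h
  exact ⟨k, orderOf_dvd_of_pow_eq_one hk⟩

theorem PEl.eq_one {p : ℕ} (hp : p.Prime) {g : G} (h : PEl p g) (h2 : ¬ p ∣ orderOf g) : g = 1 := by
  obtain ⟨k, hk⟩ := h.orderOf_dvd
  rw [Nat.dvd_prime_pow hp] at hk
  obtain ⟨j, -, hj⟩ := hk
  rcases Nat.eq_zero_or_pos j with rfl | hj0
  · rwa [pow_zero, orderOf_eq_one_iff] at hj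
  · exact absurd (hj ▸ dvd_pow_self p hj0.ne') h2

theorem PEl.of_mem {p : ℕ} {P : Subgroup G} (hP : IsPGroup p P) {g : G} (hg : g ∈ P) :
    PEl p g := by
  obtain ⟨k, hk⟩ := hP ⟨g, hg⟩
  exact ⟨k, by simpa using congrArg Subtype.val hk⟩

theorem not_dvd_orderOf_conj {p : ℕ} {g : G} (h : ¬ p ∣ orderOf g) (x : G) :
    ¬ p ∣ orderOf (x * g * x⁻¹) := by
  have : orderOf (x * g * x⁻¹) = orderOf g := by
    have := (MulAut.conj x).orderOf_eq g
    simpa [MulAut.conj_apply] using this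
  rwa [this]

/-- The centralizer of a product of commuting elements which are powers of the product. -/
theorem centralizer_mul {a b : G} (ha : a ∈ zpowers (a * b)) (hb : b ∈ zpowers (a * b)) :
    centralizer ({a * b} : Set G) = centralizer ({a} : Set G) ⊓ centralizer ({b} : Set G) := by
  apply le_antisymm
  · intro x hx
    rw [mem_centralizer_singleton_iff] at hx
    have key : ∀ y ∈ zpowers (a * b), x * y = y * x := by
      intro y hy
      obtain ⟨k, rfl⟩ := mem_zpowers_iff.1 hy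
      exact ((show Commute x (a * b) from hx).zpow_right k)
    rw [mem_inf, mem_centralizer_singleton_iff, mem_centralizer_singleton_iff]
    exact ⟨key a ha, key b hb⟩
  · intro x hx
    rw [mem_inf, mem_centralizer_singleton_iff, mem_centralizer_singleton_iff] at hx
    rw [mem_centralizer_singleton_iff]
    exact (show Commute x a from hx.1).mul_right hx.2

theorem mem_zpowers_mul_left {a b : G} (hc : a * b = b * a)
    (h : (orderOf a).Coprime (orderOf b)) : a ∈ zpowers (a * b) := by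
  have hc' : Commute a b := hc
  have h1 : (a * b) ^ orderOf b = a ^ orderOf b := by
    rw [hc'.mul_pow, pow_orderOf_eq_one, mul_one]
  have h2 : a ∈ zpowers (a ^ orderOf b) := by
    rw [mem_zpowers_iff]
    obtain ⟨m, hm⟩ := exists_pow_eq_self_of_coprime h.symm
    exact ⟨m, by simpa using hm⟩
  have h3 : a ^ orderOf b ∈ zpowers (a * b) := h1 ▸ pow_mem (mem_zpowers _) _
  exact (zpowers_le.2 h3) h2

theorem mem_zpowers_mul_right {a b : G} (hc : a * b = b * a)
    (h : (orderOf a).Coprime (orderOf b)) : b ∈ zpowers (a * b) := by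
  rw [hc]
  exact mem_zpowers_mul_left hc.symm h.symm

theorem coprime_of_pEl {p : ℕ} (hp : p.Prime) {a b : G} (ha : PEl p a) (hb : ¬ p ∣ orderOf b) :
    (orderOf a).Coprime (orderOf b) := by
  obtain ⟨k, hk⟩ := ha.orderOf_dvd
  exact Nat.Coprime.coprime_dvd_left hk (Nat.Coprime.pow_left k ((Nat.Prime.coprime_iff_not_dvd hp).2 hb))

theorem centralizer_mul_of_pEl {p : ℕ} (hp : p.Prime) {a b : G} (hc : a * b = b * a)
    (ha : PEl p a) (hb : ¬ p ∣ orderOf b) :
    centralizer ({a * b} : Set G) = centralizer ({a} : Set G) ⊓ centralizer ({b} : Set G) :=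
  centralizer_mul (mem_zpowers_mul_left hc (coprime_of_pEl hp ha hb))
    (mem_zpowers_mul_right hc (coprime_of_pEl hp ha hb))

/-- Decomposition into `p`- and `p'`-part. -/
theorem exists_parts [Finite G] {p : ℕ} (hp : p.Prime) (g : G) :
    ∃ a b : G, g = a * b ∧ a * b = b * a ∧ PEl p a ∧ ¬ p ∣ orderOf b ∧ a ∈ zpowers g ∧
      b ∈ zpowers g := by
  obtain ⟨k, m, hm, hkm⟩ := Nat.exists_eq_pow_mul_and_not_dvd (orderOf_pos g).ne' p hp.ne_one
  have hcop : IsCoprime ((p ^ k : ℕ) : ℤ) (m : ℤ) := by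
    rw [Nat.isCoprime_iff_coprime]
    exact Nat.Coprime.pow_left k ((Nat.Prime.coprime_iff_not_dvd hp).2 hm)
  obtain ⟨u, v, huv⟩ := hcop
  refine ⟨g ^ (v * m), g ^ (u * (p ^ k : ℕ)), ?_, ?_, ⟨k, ?_⟩, ?_, ?_, ?_⟩
  · rw [← zpow_add, add_comm, huv, zpow_one]
  · rw [← zpow_add, ← zpow_add, add_comm]
  · rw [← zpow_natCast, ← zpow_mul]
    have : v * m * ((p ^ k : ℕ) : ℤ) = (orderOf g : ℤ) * v := by rw [hkm]; push_cast; ring
    rw [this, zpow_mul, zpow_natCast, pow_orderOf_eq_one, one_zpow]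
  · intro hd
    have h1 : orderOf (g ^ (u * ((p ^ k : ℕ) : ℤ))) ∣ m := by
      apply orderOf_dvd_of_pow_eq_one
      rw [← zpow_natCast, ← zpow_mul]
      have : u * ((p ^ k : ℕ) : ℤ) * m = (orderOf g : ℤ) * u := by rw [hkm]; push_cast; ring
      rw [this, zpow_mul, zpow_natCast, pow_orderOf_eq_one, one_zpow]
    exact hm (hd.trans h1)
  · exact zpow_mem (mem_zpowers g) _
  · exact zpow_mem (mem_zpowers g) _

/-- If the conjugates of a subgroup cover a finite group, it is the whole group. -/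
theorem eq_top_of_conj_cover [Finite G] (H : Subgroup G)
    (h : ∀ g : G, ∃ x : G, x⁻¹ * g * x ∈ H) : H = ⊤ := by
  by_contra hH
  obtain ⟨g, hg⟩ := Cfsg.Agent.H395.Jordan.exists_not_conj_mem hH
  obtain ⟨x, hx⟩ := h g
  exact hg x hx

/-- A `p`-element of a subgroup of index prime to `p` is in a Sylow subgroup contained in it. -/
theorem exists_sylow_le [Finite G] {p : ℕ} [Fact p.Prime] (K : Subgroup G) (hK : ¬ p ∣ K.index)
    {a : G} (haK : a ∈ K) (ha : PEl p a) : ∃ S : Sylow p G, a ∈ S ∧ (S : Subgroup G) ≤ K := by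
  have h1 : IsPGroup p (zpowers (⟨a, haK⟩ : K)) := by
    intro x
    obtain ⟨k, hk⟩ := ha
    obtain ⟨x, hx⟩ := x
    obtain ⟨m, rfl⟩ := mem_zpowers_iff.1 hx
    refine ⟨k, ?_⟩
    apply Subtype.ext
    apply Subtype.ext
    simp only [SubmonoidClass.mk_pow, coe_pow, coe_zpow, coe_one]
    rw [← zpow_natCast, ← zpow_mul, mul_comm, zpow_mul, zpow_natCast, hk, one_zpow]
  obtain ⟨Q, hQ⟩ := h1.exists_le_sylow
  have hQi : ¬ p ∣ ((Q : Subgroup K).map K.subtype).index := by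
    rw [Subgroup.index_map_subtype]
    exact (Fact.out : p.Prime).not_dvd_mul Q.not_dvd_index hK
  refine ⟨(Q.2.map K.subtype).toSylow hQi, ?_, ?_⟩
  · change a ∈ ((Q.2.map K.subtype).toSylow hQi : Subgroup G)
    rw [IsPGroup.toSylow_coe]
    exact ⟨⟨a, haK⟩, hQ (mem_zpowers _), rfl⟩
  · rw [IsPGroup.toSylow_coe]
    exact map_subtype_le _

/-- A `p`-element normalizing a Sylow subgroup is in it. -/
theorem mem_sylow_of_normalizer [Finite G] {p : ℕ} [Fact p.Prime] (S : Sylow p G) {a : G}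
    (ha : PEl p a) (hn : a ∈ normalizer ((S : Subgroup G) : Set G)) : a ∈ S := by
  have h1 : IsPGroup p (zpowers a) := by
    intro x
    obtain ⟨k, hk⟩ := ha
    obtain ⟨x, hx⟩ := x
    obtain ⟨m, rfl⟩ := mem_zpowers_iff.1 hx
    refine ⟨k, ?_⟩
    apply Subtype.ext
    simp only [SubmonoidClass.mk_pow, coe_one]
    rw [← zpow_natCast, ← zpow_mul, mul_comm, zpow_mul, zpow_natCast, hk, one_zpow]
  have h2 : zpowers a ≤ normalizer ((S : Subgroup G) : Set G) := zpowers_le.2 hn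
  have h3 : IsPGroup p ((S : Subgroup G) ⊔ zpowers a : Subgroup G) := by
    rw [sup_comm]
    exact IsPGroup.to_sup_of_normal_right' h1 S.2 h2
  have h4 : (S : Subgroup G) = (S : Subgroup G) ⊔ zpowers a :=
    (S.3 h3 le_sup_left).symm
  have h5 : a ∈ (S : Subgroup G) ⊔ zpowers a := mem_sup_right (mem_zpowers a)
  rw [← h4] at h5
  exact h5

/-- `C = P × H` internally with `P` a `p`-group and `H` a `p'`-group. -/
structure Dec (p : ℕ) (C P H : Subgroup G) : Prop where
  le : P ≤ C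
  le' : H ≤ C
  pgrp : IsPGroup p P
  cop : ¬ p ∣ Nat.card H
  comm : ∀ x ∈ P, ∀ y ∈ H, x * y = y * x
  mulm : ∀ g ∈ C, ∃ x ∈ P, ∃ y ∈ H, g = x * y

theorem not_dvd_orderOf_of_mem [Finite G] {p : ℕ} {H : Subgroup G} (hH : ¬ p ∣ Nat.card H) {g : G}
    (hg : g ∈ H) : ¬ p ∣ orderOf g := by
  intro h
  apply hH
  refine h.trans ?_
  have := orderOf_dvd_natCard (⟨g, hg⟩ : H)
  rwa [← Subgroup.orderOf_coe] at this

theorem exists_dec_top {E : Type*} [Group E] [Finite E] {p : ℕ} [Fact p.Prime]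
    (h : ∀ u : E, ¬ p ∣ orderOf u → ¬ p ∣ (centralizer ({u} : Set E)).index) :
    ∃ P H : Subgroup E, Dec p ⊤ P H := by
  have hp : p.Prime := Fact.out
  obtain ⟨P⟩ : Nonempty (Sylow p E) := inferInstance
  set C := centralizer ((P : Subgroup E) : Set E) with hC
  have hCn : C ≤ normalizer ((P : Subgroup E) : Set E) := centralizer_le_normalizer _
  have hPC : ∀ a ∈ C, PEl p a → a ∈ P := fun a ha hpa =>
    mem_sylow_of_normalizer P hpa (hCn ha)
  have htop : (P : Subgroup E) ⊔ C = ⊤ := by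
    apply eq_top_of_conj_cover
    intro g
    obtain ⟨a, b, hg, hab, ha, hb, -, -⟩ := exists_parts hp g
    obtain ⟨S, haS, hSb⟩ := exists_sylow_le (p := p) (centralizer ({b} : Set E)) (h b hb)
      (mem_centralizer_singleton_iff.2 hab) ha
    obtain ⟨x, hx⟩ := MulAction.exists_smul_eq E P S
    refine ⟨x, ?_⟩
    have hmem : ∀ y, y ∈ S ↔ x⁻¹ * y * x ∈ P := by
      intro y
      rw [← hx]
      change y ∈ ((x • P : Sylow p E) : Subgroup E) ↔ _
      rw [Sylow.coe_subgroup_smul, Subgroup.mem_pointwise_smul_iff_inv_smul_mem]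
      have e : (MulAut.conj x)⁻¹ • y = x⁻¹ * y * x := by simp [MulAut.smul_def]
      rw [e]
      rfl
    have h1 : x⁻¹ * a * x ∈ P := (hmem a).1 haS
    have h2 : x⁻¹ * b * x ∈ C := by
      rw [hC, mem_centralizer_iff]
      intro y hy
      have h3 : x * y * x⁻¹ ∈ S := by
        rw [hmem]; simpa [mul_assoc] using hy
      have h4 := mem_centralizer_singleton_iff.1 (hSb h3)
      calc y * (x⁻¹ * b * x) = x⁻¹ * ((x * y * x⁻¹) * b) * x := by group
        _ = x⁻¹ * (b * (x * y * x⁻¹)) * x := by rw [h4]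
        _ = x⁻¹ * b * x * y := by group
    have h5 : x⁻¹ * g * x = (x⁻¹ * a * x) * (x⁻¹ * b * x) := by rw [hg]; group
    rw [h5]
    exact mul_mem (mem_sup_left h1) (mem_sup_right h2)
  -- the complement in `C`
  obtain ⟨S'⟩ : Nonempty (Sylow p C) := inferInstance
  have hS' : (S' : Subgroup C) ≤ center C := by
    intro s hs
    rw [mem_center_iff]
    intro c
    have h1 : PEl p (s : E) := by
      obtain ⟨k, hk⟩ := PEl.of_mem S'.2 hs
      exact ⟨k, by simpa using congrArg Subtype.val hk⟩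
    have h2 : (s : E) ∈ P := hPC s s.2 h1
    apply Subtype.ext
    simp only [Subgroup.coe_mul]
    have h3 := (mem_centralizer_iff.1 c.2) (s : E) h2
    exact h3.symm
  obtain ⟨K, -, -, hKc, hKm⟩ := Cfsg.Agent.Blocks.CentralSylow.exists_complement S' hS'
  refine ⟨P, K.map C.subtype, ⟨le_top, le_top, P.2, ?_, ?_, ?_⟩⟩
  · rw [Nat.card_congr (K.equivMapOfInjective C.subtype C.subtype_injective).toEquiv.symm]
    exact (Nat.Prime.coprime_iff_not_dvd hp).1 hKc.symm
  · rintro x hx _ ⟨y, -, rfl⟩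
    exact (mem_centralizer_iff.1 y.2) x hx
  · intro g _
    have hg : g ∈ (P : Subgroup E) ⊔ C := htop ▸ mem_top g
    have : ∃ x ∈ (P : Subgroup E), ∃ c ∈ C, x * c = g := by
      rw [← SetLike.mem_coe, Subgroup.coe_mul_of_right_le_normalizer_left _ _ hCn] at hg
      exact Set.mem_mul.1 hg
    obtain ⟨x, hx, c, hc, rfl⟩ := this
    obtain ⟨a, b, hab, hab', ha, hb, haz, hbz⟩ := exists_parts hp c
    have haC : a ∈ C := (zpowers_le.2 hc) haz
    have hbC : b ∈ C := (zpowers_le.2 hc) hbz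
    refine ⟨x * a, mul_mem hx (hPC a haC ha), b, ⟨⟨b, hbC⟩, ?_, rfl⟩, by rw [hab, mul_assoc]⟩
    rw [SetLike.mem_coe, hKm, ← Subgroup.orderOf_coe]
    exact hb

end Cfsg.Agent.H558.Cs
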